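import Groth.Agent.Lib.Lead.QC.FlatBC
import Groth.Agent.Lib.Lead.QC.Counit
import Groth.Agent.Lib.Lead.QC.Iso
import Groth.Agent.Lib.Lead.QC.SubExt
import Mathlib.AlgebraicGeometry.FunctionField
import Mathlib.AlgebraicGeometry.Fiber

/-!
# The generic fibre of a morphism to an integral scheme, on affine charts (for S4684)
-/

set_option autoImplicit false
universe u
open CategoryTheory Limits AlgebraicGeometry TopologicalSpace Opposite

namespace Groth.Agent.H3.GenQuot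

open Groth.Agent.LD.QC

section Base
variable (Y : Scheme.{u}) [IsIntegral Y]

/-- a nonempty open of an integral scheme contains the generic point -/
lemma genericPoint_mem (V : Y.Opens) (hV : (V : Set Y).Nonempty) : genericPoint Y ∈ V := by
  have := ((genericPoint_spec Y).mem_open_set_iff V.2).mpr (by simpa using hV)
  exact this

lemma preimage_eq_top (V : Y.Opens) (hη : genericPoint Y ∈ V) :
    (Y.fromSpecResidueField (genericPoint Y)) ⁻¹ᵁ V = ⊤ := by
  ext z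
  constructor
  · intro _; trivial
  · intro _
    change Y.fromSpecResidueField (genericPoint Y) z ∈ V
    rw [Scheme.fromSpecResidueField_apply]
    exact hη

/-- the ring map `Γ(Y, V) ⟶ κ(η)` induced by `Spec κ(η) ⟶ Y` is germ followed by residue -/
lemma appLE_top_ΓSpecIso (V : Y.Opens) (hη : genericPoint Y ∈ V)
    (e : (⊤ : (Spec (Y.residueField (genericPoint Y))).Opens) ≤
      (Y.fromSpecResidueField (genericPoint Y)) ⁻¹ᵁ V) :
    (Y.fromSpecResidueField (genericPoint Y)).appLE V ⊤ e ≫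
        (Scheme.ΓSpecIso (Y.residueField (genericPoint Y))).hom =
      Y.presheaf.germ V (genericPoint Y) hη ≫ Y.residue (genericPoint Y) := by
  have h1 : (Y.fromSpecResidueField (genericPoint Y)).appLE V ⊤ e =
      (Y.fromSpecStalk (genericPoint Y)).app V ≫
        (Spec.map (Y.residue (genericPoint Y))).appLE _ ⊤ e :=
    Scheme.Hom.comp_appLE _ _ _ _ _
  rw [h1, Scheme.fromSpecStalk_app hη]
  simp only [Category.assoc, Scheme.Hom.map_appLE]
  rw [show (Spec.map (Y.residue (genericPoint Y))).appLE ⊤ ⊤ _ =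
    (Spec.map (Y.residue (genericPoint Y))).appTop from by simp [Scheme.Hom.appLE]]
  rw [Scheme.ΓSpecIso_naturality, Iso.inv_hom_id_assoc]

/-- the generic point -/
noncomputable abbrev gp : Y := genericPoint Y

/-- the inclusion of the generic point -/
noncomputable abbrev jg : Spec (Y.residueField (gp Y)) ⟶ Y := Y.fromSpecResidueField (gp Y)

set_option maxHeartbeats 1600000 in
/-- sections of an affine open map to `κ(η)` as into a fraction field -/
theorem isFractionRing_appLE (V : Y.Opens) (hV : IsAffineOpen V) (hη : gp Y ∈ V) :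
    letI := ((jg Y).appLE V ((jg Y) ⁻¹ᵁ V) le_rfl).hom.toAlgebra
    IsLocalization (nonZeroDivisors Γ(Y, V)) Γ(Spec (Y.residueField (gp Y)), (jg Y) ⁻¹ᵁ V) := by
  letI alg : Algebra Γ(Y, V) Γ(Spec (Y.residueField (gp Y)), (jg Y) ⁻¹ᵁ V) :=
    ((jg Y).appLE V ((jg Y) ⁻¹ᵁ V) le_rfl).hom.toAlgebra
  have htop : (jg Y) ⁻¹ᵁ V = ⊤ := preimage_eq_top Y V hη
  have hle : (⊤ : (Spec (Y.residueField (gp Y))).Opens) ≤ (jg Y) ⁻¹ᵁ V := htop.ge
  -- the identification of the target with `κ(η)`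
  let θ : Γ(Spec (Y.residueField (gp Y)), (jg Y) ⁻¹ᵁ V) ⟶ Y.residueField (gp Y) :=
    (Spec (Y.residueField (gp Y))).presheaf.map (homOfLE hle).op ≫
      (Scheme.ΓSpecIso (Y.residueField (gp Y))).hom
  let θ' : Y.residueField (gp Y) ⟶ Γ(Spec (Y.residueField (gp Y)), (jg Y) ⁻¹ᵁ V) :=
    (Scheme.ΓSpecIso (Y.residueField (gp Y))).inv ≫
      (Spec (Y.residueField (gp Y))).presheaf.map (homOfLE (le_top : (jg Y) ⁻¹ᵁ V ≤ ⊤)).op
  have hθθ' : θ ≫ θ' = 𝟙 _ := by
    simp only [θ, θ', Category.assoc, Iso.hom_inv_id_assoc]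
    rw [← CategoryTheory.Functor.map_comp]
    exact (Spec (Y.residueField (gp Y))).presheaf.map_id _
  have e1 : ∀ c, θ' (θ c) = c := fun c => congr($(hθθ') c)
  have hθinj : Function.Injective θ := by
    intro a b hab
    have := congrArg θ' hab
    rwa [e1, e1] at this
  have hφθ : ∀ r : Γ(Y, V), θ (algebraMap Γ(Y, V) _ r) =
      Y.residue (gp Y) (Y.presheaf.germ V (gp Y) hη r) := by
    intro r
    have h1 : (jg Y).appLE V ((jg Y) ⁻¹ᵁ V) le_rfl ≫ θ =
        Y.presheaf.germ V (gp Y) hη ≫ Y.residue (gp Y) := by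
      rw [← appLE_top_ΓSpecIso Y V hη hle]
      simp only [θ, ← Category.assoc, Scheme.Hom.appLE_map]
    exact congr($(h1) r)
  haveI : Nonempty V := ⟨⟨gp Y, hη⟩⟩
  have hψinj : Function.Injective
      fun r : Γ(Y, V) => Y.residue (gp Y) (Y.presheaf.germ V (gp Y) hη r) := by
    intro a b hab
    apply germ_injective_of_isIntegral Y (gp Y) hη
    exact (RingHom.injective (Y.residue (gp Y)).hom (R := Y.functionField)) hab
  have hφinj : Function.Injective
      (algebraMap Γ(Y, V) Γ(Spec (Y.residueField (gp Y)), (jg Y) ⁻¹ᵁ V)) := by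
    intro a b hab
    apply hψinj
    change Y.residue (gp Y) (Y.presheaf.germ V (gp Y) hη a) =
      Y.residue (gp Y) (Y.presheaf.germ V (gp Y) hη b)
    rw [← hφθ, ← hφθ, hab]
  haveI hfr : IsFractionRing Γ(Y, V) Y.functionField :=
    functionField_isFractionRing_of_isAffineOpen Y V hV
  rw [isLocalization_iff]
  refine ⟨?_, ?_, ?_⟩
  · rintro ⟨y, hy⟩
    have hy0 : y ≠ 0 := nonZeroDivisors.ne_zero hy
    have h1 : θ (algebraMap Γ(Y, V) _ y) ≠ 0 := by
      rw [hφθ]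
      intro h0
      apply hy0
      apply hψinj
      change Y.residue (gp Y) (Y.presheaf.germ V (gp Y) hη y) =
        Y.residue (gp Y) (Y.presheaf.germ V (gp Y) hη 0)
      rw [h0, map_zero, map_zero]
    have h2 : IsUnit (θ (algebraMap Γ(Y, V) _ y)) := isUnit_iff_ne_zero.mpr h1
    have h3 := h2.map θ'.hom
    have e2 : θ'.hom (θ (algebraMap Γ(Y, V) _ y)) = algebraMap Γ(Y, V) _ y := e1 _
    rwa [e2] at h3
  · intro z
    obtain ⟨s, hs⟩ : ∃ s : Y.presheaf.stalk (gp Y), Y.residue (gp Y) s = θ z :=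
      IsLocalRing.residue_surjective (θ z)
    obtain ⟨⟨a, b⟩, hab⟩ := IsLocalization.surj (nonZeroDivisors Γ(Y, V)) (S := Y.functionField) s
    refine ⟨⟨a, b⟩, ?_⟩
    apply hθinj
    rw [map_mul, hφθ, hφθ, ← hs, ← map_mul]
    exact congrArg (Y.residue (gp Y)) hab
  · intro x y hxy
    exact ⟨1, by rw [hφinj hxy]⟩

end Base

section Fibre
variable {X Y : Scheme.{u}} [IsIntegral Y] (f : X ⟶ Y)

/-- the inclusion of the generic fibre -/
noncomputable abbrev ig : f.fiber (gp Y) ⟶ X := f.fiberι (gp Y)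

/-- the structure map of the generic fibre -/
noncomputable abbrev pg : f.fiber (gp Y) ⟶ Spec (Y.residueField (gp Y)) :=
  f.fiberToSpecResidueField (gp Y)

lemma isPullback_fiber : IsPullback (ig f) (pg f) f (jg Y) :=
  IsPullback.of_hasPullback f (Y.fromSpecResidueField (gp Y))

lemma preimage_eq_inf {U : X.Opens} {V : Y.Opens} (hUV : U ≤ f ⁻¹ᵁ V) :
    (ig f) ⁻¹ᵁ U = (ig f) ⁻¹ᵁ U ⊓ (pg f) ⁻¹ᵁ ((jg Y) ⁻¹ᵁ V) := by
  refine le_antisymm (le_inf le_rfl ?_) inf_le_left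
  intro x hx
  change jg Y (pg f x) ∈ V
  have h1 : jg Y (pg f x) = f (ig f x) := by
    have := congr($((isPullback_fiber f).w) x)
    simpa using this.symm
  rw [h1]
  exact hUV hx

lemma isAffineOpen_preimage {U : X.Opens} {V : Y.Opens} (hU : IsAffineOpen U)
    (hV : IsAffineOpen V) (hUV : U ≤ f ⁻¹ᵁ V) (hη : gp Y ∈ V) :
    IsAffineOpen ((ig f) ⁻¹ᵁ U) := by
  have hT : IsAffineOpen ((jg Y) ⁻¹ᵁ V) := by
    rw [preimage_eq_top Y V hη]
    exact isAffineOpen_top _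
  haveI : IsAffine (V : Scheme.{u}) := hV
  haveI : IsAffine (((jg Y) ⁻¹ᵁ V : (Spec (Y.residueField (gp Y))).Opens) : Scheme.{u}) := hT
  haveI : IsAffine (U : Scheme.{u}) := hU
  exact .of_isIso (Scheme.Hom.isPullback_resLE (isPullback_fiber f) le_rfl hUV
    (preimage_eq_inf f hUV)).isoPullback.hom

set_option maxHeartbeats 1600000 in
/-- **the generic fibre on charts**: sections over `i⁻¹ U` are the localization of sections over
`U` at the nonzero functions of the base chart. -/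
theorem isLocalization_fiber {U : X.Opens} {V : Y.Opens} (hU : IsAffineOpen U)
    (hV : IsAffineOpen V) (hUV : U ≤ f ⁻¹ᵁ V) (hη : gp Y ∈ V) :
    letI := (f.appLE V U hUV).hom.toAlgebra
    letI := ((ig f).appLE U ((ig f) ⁻¹ᵁ U) le_rfl).hom.toAlgebra
    IsLocalization (Algebra.algebraMapSubmonoid Γ(X, U) (nonZeroDivisors Γ(Y, V)))
      Γ(f.fiber (gp Y), (ig f) ⁻¹ᵁ U) := by
  have hT : IsAffineOpen ((jg Y) ⁻¹ᵁ V) := by
    rw [preimage_eq_top Y V hη]
    exact isAffineOpen_top _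
  have hc := isPullback_fiber f
  have hUY := preimage_eq_inf f hUV
  have e2 : (ig f) ⁻¹ᵁ U ≤ (pg f) ⁻¹ᵁ ((jg Y) ⁻¹ᵁ V) := by
    rw [hUY]; exact inf_le_right
  have hpo : IsPushout (f.appLE V U hUV) ((jg Y).appLE V ((jg Y) ⁻¹ᵁ V) le_rfl)
      ((ig f).appLE U ((ig f) ⁻¹ᵁ U) le_rfl) ((pg f).appLE ((jg Y) ⁻¹ᵁ V) ((ig f) ⁻¹ᵁ U) e2) :=
    (isIso_pushoutSection_iff hc le_rfl hUV hUY).mp
      (isIso_pushoutSection_of_isAffineOpen hc le_rfl hUV hUY hV hT hU)
  letI aRR' : Algebra Γ(Y, V) Γ(Spec (Y.residueField (gp Y)), (jg Y) ⁻¹ᵁ V) :=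
    ((jg Y).appLE V ((jg Y) ⁻¹ᵁ V) le_rfl).hom.toAlgebra
  letI aRT : Algebra Γ(Y, V) Γ(X, U) := (f.appLE V U hUV).hom.toAlgebra
  letI aR'T' : Algebra Γ(Spec (Y.residueField (gp Y)), (jg Y) ⁻¹ᵁ V)
      Γ(f.fiber (gp Y), (ig f) ⁻¹ᵁ U) :=
    ((pg f).appLE ((jg Y) ⁻¹ᵁ V) ((ig f) ⁻¹ᵁ U) e2).hom.toAlgebra
  letI aTT' : Algebra Γ(X, U) Γ(f.fiber (gp Y), (ig f) ⁻¹ᵁ U) :=
    ((ig f).appLE U ((ig f) ⁻¹ᵁ U) le_rfl).hom.toAlgebra
  letI aRT' : Algebra Γ(Y, V) Γ(f.fiber (gp Y), (ig f) ⁻¹ᵁ U) :=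
    (((ig f).appLE U ((ig f) ⁻¹ᵁ U) le_rfl).hom.comp (f.appLE V U hUV).hom).toAlgebra
  haveI t1 : IsScalarTower Γ(Y, V) Γ(X, U) Γ(f.fiber (gp Y), (ig f) ⁻¹ᵁ U) :=
    IsScalarTower.of_algebraMap_eq fun _ => rfl
  haveI t2 : IsScalarTower Γ(Y, V) Γ(Spec (Y.residueField (gp Y)), (jg Y) ⁻¹ᵁ V)
      Γ(f.fiber (gp Y), (ig f) ⁻¹ᵁ U) := IsScalarTower.of_algebraMap_eq fun r => by
    have := congr($(hpo.w) r)
    exact this
  haveI hPO : Algebra.IsPushout Γ(Y, V) Γ(Spec (Y.residueField (gp Y)), (jg Y) ⁻¹ᵁ V) Γ(X, U)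
      Γ(f.fiber (gp Y), (ig f) ⁻¹ᵁ U) := CommRingCat.isPushout_iff_isPushout.mp hpo.flip
  haveI := isFractionRing_appLE Y V hV hη
  exact (Algebra.isLocalization_iff_isPushout (nonZeroDivisors Γ(Y, V))
    Γ(Spec (Y.residueField (gp Y)), (jg Y) ⁻¹ᵁ V)).mpr hPO.symm

end Fibre

end Groth.Agent.H3.GenQuot
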