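import Groth.Agent.Lib.Helper3.GenQuot.A
import Groth.Agent.Lib.Helper3.AssFlatDim1
import Groth.Agent.Lib.Lead.QC.Push
import Groth.Agent.Lib.Lead.QC.StalkNbhd

/-!
# Modules on the generic fibre (for S4684)
-/

set_option autoImplicit false
universe u
open CategoryTheory Limits AlgebraicGeometry TopologicalSpace Opposite

namespace Groth.Agent.H3.GenQuot

open Groth.Agent.LD.QC

section Inst
variable {X Y : Scheme.{u}} [IsIntegral Y] (f : X ⟶ Y)

instance quasiCompact_jg : QuasiCompact (jg Y) := by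
  refine ⟨fun U _ _ => ?_⟩
  haveI : Finite ↥(Spec (Y.residueField (gp Y))) :=
    inferInstanceAs (Finite (PrimeSpectrum (Y.residueField (gp Y))))
  exact (Set.toFinite _).isCompact

instance quasiSeparated_jg : QuasiSeparated (jg Y) := inferInstance

instance quasiCompact_ig : QuasiCompact (ig f) :=
  inferInstanceAs (QuasiCompact (pullback.fst f (jg Y)))

instance quasiSeparated_ig : QuasiSeparated (ig f) :=
  inferInstanceAs (QuasiSeparated (pullback.fst f (jg Y)))

end Inst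

section Mod
variable {X Y : Scheme.{u}} [IsIntegral Y] (f : X ⟶ Y)

/-- nonzero functions on a base chart become units on the generic fibre -/
lemma isUnit_appLE {U : X.Opens} {V : Y.Opens} (hU : IsAffineOpen U) (hV : IsAffineOpen V)
    (hUV : U ≤ f ⁻¹ᵁ V) (hη : gp Y ∈ V) (r : Γ(Y, V)) (hr : r ≠ 0) :
    IsUnit ((ig f).appLE U ((ig f) ⁻¹ᵁ U) le_rfl (f.appLE V U hUV r)) := by
  letI := (f.appLE V U hUV).hom.toAlgebra
  letI := ((ig f).appLE U ((ig f) ⁻¹ᵁ U) le_rfl).hom.toAlgebra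
  haveI := isLocalization_fiber f hU hV hUV hη
  haveI : Nonempty V := ⟨⟨gp Y, hη⟩⟩
  exact IsLocalization.map_units Γ(f.fiber (gp Y), (ig f) ⁻¹ᵁ U)
    (⟨_, ⟨r, mem_nonZeroDivisors_of_ne_zero hr, rfl⟩⟩ :
      Algebra.algebraMapSubmonoid Γ(X, U) (nonZeroDivisors Γ(Y, V)))

/-- sections of a pushforward from the generic fibre have no torsion over the base -/
lemma eq_zero_of_smul_pushforward (G' : (f.fiber (gp Y)).Modules) {U : X.Opens} {V : Y.Opens}
    (hU : IsAffineOpen U) (hV : IsAffineOpen V) (hUV : U ≤ f ⁻¹ᵁ V) (hη : gp Y ∈ V)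
    (r : Γ(Y, V)) (hr : r ≠ 0) (m : Γ((Scheme.Modules.pushforward (ig f)).obj G', U))
    (h : (f.appLE V U hUV r) • m = 0) : m = 0 := by
  have hu := isUnit_appLE f hU hV hUV hη r hr
  obtain ⟨m', hm'⟩ : ∃ m' : Γ(G', (ig f) ⁻¹ᵁ U), m' = m := ⟨m, rfl⟩
  have h1 : ((ig f).appLE U ((ig f) ⁻¹ᵁ U) le_rfl (f.appLE V U hUV r)) • m' = 0 := by
    rw [← Scheme.Hom.app_eq_appLE, hm']
    exact h
  have h2 : m' = 0 := hu.smul_eq_zero.mp h1
  rw [← hm']
  exact h2

set_option maxHeartbeats 1600000 in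
/-- **a submodule of a pushforward from the generic fibre is flat over a base whose local rings
are regular of dimension at most one** -/
theorem isFlatOver_of_mono_pushforward
    (hY : ∀ y : Y, IsRegularLocalRing (Y.presheaf.stalk y) ∧ ringKrullDim (Y.presheaf.stalk y) ≤ 1)
    {G : X.Modules} (G' : (f.fiber (gp Y)).Modules)
    (ι : G ⟶ (Scheme.Modules.pushforward (ig f)).obj G') [Mono ι] : FlatMod.IsFlatOver f G := by
  intro x
  unfold FlatMod.IsFlatOverAt
  letI := FlatMod.moduleStalkOver f G x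
  haveI hreg := (hY (f x)).1
  haveI hdom := Groth.Agent.H7.Reg.isDomain (Y.presheaf.stalk (f x))
  haveI hbez := Groth.Agent.H3.AssFlatDim1.isBezout_of_regular (Y.presheaf.stalk (f x)) (hY (f x)).2
  rw [Module.Flat.flat_iff_torsion_eq_bot_of_isBezout, Submodule.eq_bot_iff]
  intro m hm
  obtain ⟨⟨s, hs⟩, hsm⟩ := (Submodule.mem_torsion_iff m).mp hm
  have hs0 : s ≠ 0 := nonZeroDivisors.ne_zero hs
  change s • m = 0 at hsm
  -- represent `s` and `m` by sections
  obtain ⟨V', hy', r, rfl⟩ := TopCat.Presheaf.exists_germ_eq Y.presheaf s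
  obtain ⟨V, hV, hfxV, hVV'⟩ := exists_isAffineOpen_mem_and_subset (x := f x) (U := V') hy'
  have hVV'' : V ≤ V' := hVV'
  obtain ⟨U₁, hx₁, g, rfl⟩ := TopCat.Presheaf.exists_germ_eq G.presheaf m
  have hxW : x ∈ U₁ ⊓ f ⁻¹ᵁ V := ⟨hx₁, hfxV⟩
  obtain ⟨U, hU, hxU, hUW⟩ := exists_isAffineOpen_mem_and_subset (x := x) (U := U₁ ⊓ f ⁻¹ᵁ V) hxW
  have hUU₁ : U ≤ U₁ := fun _ h => (hUW h).1
  have hUV : U ≤ f ⁻¹ᵁ V := fun _ h => (hUW h).2
  set r' : Γ(Y, V) := Y.presheaf.map (homOfLE hVV'').op r with hr'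
  set g' : Γ(G, U) := G.presheaf.map (homOfLE hUU₁).op g with hg'
  have hgr : Y.presheaf.germ V (f x) hfxV r' = Y.presheaf.germ V' (f x) hy' r :=
    sgerm_res (f x) hVV'' hfxV r
  have hgg : G.presheaf.germ U x hxU g' = G.presheaf.germ U₁ x hx₁ g := germ_res G x hUU₁ hxU g
  have hr'0 : r' ≠ 0 := by
    intro h0
    apply hs0
    rw [← hgr, h0, map_zero]
  -- the vanishing in terms of sections
  have key : G.presheaf.germ U x hxU ((f.appLE V U hUV r') • g') = 0 := by
    rw [germ_smul, hgg, ← Groth.Agent.H3.AssFlatDim1.stalkMap_germ_appLE f hUV x hxU r', hgr]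
    exact hsm
  obtain ⟨U₂, hU₂, hxU₂, h0⟩ := exists_res_eq_zero_of_germ_eq_zero G x hxU _ key
  obtain ⟨U₃, hU₃, hxU₃, hU₃₂⟩ := exists_isAffineOpen_mem_and_subset (x := x) (U := U₂) hxU₂
  have hU₃₂' : U₃ ≤ U₂ := hU₃₂
  have hU₃U : U₃ ≤ U := hU₃₂'.trans hU₂
  have hU₃V : U₃ ≤ f ⁻¹ᵁ V := hU₃U.trans hUV
  have h1 : G.presheaf.map (homOfLE hU₃U).op ((f.appLE V U hUV r') • g') = 0 := by
    have e2 := res_res G hU₂ hU₃₂' ((f.appLE V U hUV r') • g')
    rw [h0, map_zero] at e2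
    exact e2.symm
  rw [smul_res] at h1
  have h2 : X.presheaf.map (homOfLE hU₃U).op (f.appLE V U hUV r') = f.appLE V U₃ hU₃V r' := by
    have := Scheme.Hom.appLE_map f hUV (homOfLE hU₃U).op
    exact congr($(this) r')
  rw [h2] at h1
  have h3 : ι.app U₃ (G.presheaf.map (homOfLE hU₃U).op g') = 0 := by
    apply eq_zero_of_smul_pushforward f G' hU₃ hV hU₃V (genericPoint_mem Y V ⟨f x, hfxV⟩) r' hr'0
    rw [← Scheme.Modules.Hom.app_smul, h1, map_zero]
  have h4 : G.presheaf.map (homOfLE hU₃U).op g' = 0 := by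
    apply mono_app ι U₃
    rw [h3, map_zero]
  rw [← hgg, ← germ_res G x hU₃U hxU₃ g', h4, map_zero]

/-- on charts, the sections of the pullback to the generic fibre are the localization -/
theorem isLocalizedModule_pbSec (N : X.Modules) [N.IsQuasicoherent] {U : X.Opens} {V : Y.Opens}
    (hU : IsAffineOpen U) (hV : IsAffineOpen V) (hUV : U ≤ f ⁻¹ᵁ V) (hη : gp Y ∈ V) :
    letI := (f.appLE V U hUV).hom.toAlgebra
    letI := pbModule (ig f) N (le_refl ((ig f) ⁻¹ᵁ U))
    IsLocalizedModule (Algebra.algebraMapSubmonoid Γ(X, U) (nonZeroDivisors Γ(Y, V)))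
      (pbSecₗ (ig f) N (le_refl ((ig f) ⁻¹ᵁ U))) := by
  letI := (f.appLE V U hUV).hom.toAlgebra
  letI := ((ig f).appLE U ((ig f) ⁻¹ᵁ U) le_rfl).hom.toAlgebra
  letI := pbModule (ig f) N (le_refl ((ig f) ⁻¹ᵁ U))
  haveI := pbModule_isScalarTower (ig f) N (le_refl ((ig f) ⁻¹ᵁ U))
  haveI := isLocalization_fiber f hU hV hUV hη
  exact (isLocalizedModule_iff_isBaseChange
    (Algebra.algebraMapSubmonoid Γ(X, U) (nonZeroDivisors Γ(Y, V)))
    Γ(f.fiber (gp Y), (ig f) ⁻¹ᵁ U) _).mpr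
    (isBaseChange_pbSec (ig f) (isAffineOpen_preimage f hU hV hUV hη) hU le_rfl N)

set_option maxHeartbeats 1600000 in
/-- **a quasi-coherent module flat over the base injects into the pushforward of its generic
fibre** -/
theorem mono_unit_of_isFlatOver (G₁ : X.Modules) [hG₁ : G₁.IsQuasicoherent]
    (hfl : FlatMod.IsFlatOver f G₁) :
    Mono ((Scheme.Modules.pullbackPushforwardAdjunction (ig f)).unit.app G₁) := by
  set u := (Scheme.Modules.pullbackPushforwardAdjunction (ig f)).unit.app G₁ with hu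
  haveI hq1 : ((Scheme.Modules.pullback (ig f)).obj G₁).IsQuasicoherent := qc_pullback (ig f) G₁
  haveI hq2 : ((Scheme.Modules.pushforward (ig f)).obj
      ((Scheme.Modules.pullback (ig f)).obj G₁)).IsQuasicoherent := qc_pushforward (ig f) _
  haveI hK : (kernel u).IsQuasicoherent := qc_kernel u hG₁ hq2
  have hz : IsZero (kernel u) := by
    apply isZero_of_affine_cover
    intro x
    obtain ⟨V, hV, hfxV, -⟩ :=
      exists_isAffineOpen_mem_and_subset (x := f x) (U := (⊤ : Y.Opens)) trivial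
    obtain ⟨U, hU, hxU, hUV⟩ :=
      exists_isAffineOpen_mem_and_subset (x := x) (U := f ⁻¹ᵁ V) hfxV
    have hUV' : U ≤ f ⁻¹ᵁ V := hUV
    have hη := genericPoint_mem Y V ⟨_, hfxV⟩
    haveI : Nonempty V := ⟨⟨gp Y, hη⟩⟩
    refine ⟨U, hU, hxU, fun s => ?_⟩
    have hg : u.app U ((kernel.ι u).app U s) = 0 := kernel_ι_app_comp u U s
    set g := (kernel.ι u).app U s with hgdef
    letI := (f.appLE V U hUV').hom.toAlgebra
    letI := pbModule (ig f) G₁ (le_refl ((ig f) ⁻¹ᵁ U))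
    haveI hloc := isLocalizedModule_pbSec f G₁ hU hV hUV' hη
    have h1 : pbSecₗ (ig f) G₁ (le_refl ((ig f) ⁻¹ᵁ U)) g =
        pbSecₗ (ig f) G₁ (le_refl ((ig f) ⁻¹ᵁ U)) 0 := by
      rw [map_zero]
      change pbSec (ig f) G₁ (le_refl ((ig f) ⁻¹ᵁ U)) g = 0
      unfold pbSec
      rw [res_self]
      exact hg
    obtain ⟨⟨c, r, hr, rfl⟩, hc⟩ := IsLocalizedModule.exists_of_eq
      (S := Algebra.algebraMapSubmonoid Γ(X, U) (nonZeroDivisors Γ(Y, V))) h1
    rw [smul_zero] at hc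
    change (f.appLE V U hUV' r) • g = 0 at hc
    have hr0 : r ≠ 0 := nonZeroDivisors.ne_zero hr
    have hg0 : g = 0 := by
      apply section_eq_zero_of_germ
      intro x' hx'
      have h2 : G₁.presheaf.germ U x' hx' ((f.appLE V U hUV' r) • g) = 0 := by
        rw [hc, map_zero]
      rw [germ_smul, ← Groth.Agent.H3.AssFlatDim1.stalkMap_germ_appLE f hUV' x' hx' r] at h2
      have hflx := hfl x'
      unfold FlatMod.IsFlatOverAt at hflx
      letI := FlatMod.moduleStalkOver f G₁ x'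
      have hne : Y.presheaf.germ V (f x') (hUV' hx') r ≠ 0 := by
        intro h0
        apply hr0
        apply germ_injective_of_isIntegral Y (f x') (hUV' hx')
        rw [h0, map_zero]
      have hreg := Module.Flat.isSMulRegular_of_nonZeroDivisors
        (M := G₁.presheaf.stalk x') (mem_nonZeroDivisors_of_ne_zero hne)
      apply hreg
      beta_reduce
      rw [smul_zero]
      exact h2
    apply mono_app (kernel.ι u) U
    rw [map_zero]
    exact hg0
  exact Preadditive.mono_of_kernel_zero (hz.eq_of_src _ _)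

set_option maxHeartbeats 1600000 in
/-- **the adjoint of a monomorphism into a pushforward from the generic fibre is a
monomorphism** -/
theorem mono_pullback_comp_counit {G : X.Modules} [hG : G.IsQuasicoherent]
    (G' : (f.fiber (gp Y)).Modules) [hG' : G'.IsQuasicoherent]
    (ι : G ⟶ (Scheme.Modules.pushforward (ig f)).obj G') [Mono ι] :
    Mono ((Scheme.Modules.pullback (ig f)).map ι ≫
      (Scheme.Modules.pullbackPushforwardAdjunction (ig f)).counit.app G') := by
  set e := (Scheme.Modules.pullback (ig f)).map ι ≫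
      (Scheme.Modules.pullbackPushforwardAdjunction (ig f)).counit.app G' with he
  haveI hq1 : ((Scheme.Modules.pullback (ig f)).obj G).IsQuasicoherent := qc_pullback (ig f) G
  haveI hK : (kernel e).IsQuasicoherent := qc_kernel e hq1 hG'
  have hz : IsZero (kernel e) := by
    apply isZero_of_affine_cover
    intro x'
    obtain ⟨V, hV, hfxV, -⟩ :=
      exists_isAffineOpen_mem_and_subset (x := f (ig f x')) (U := (⊤ : Y.Opens)) trivial
    obtain ⟨U, hU, hxU, hUV⟩ :=
      exists_isAffineOpen_mem_and_subset (x := ig f x') (U := f ⁻¹ᵁ V) hfxV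
    have hUV' : U ≤ f ⁻¹ᵁ V := hUV
    have hη := genericPoint_mem Y V ⟨_, hfxV⟩
    haveI : Nonempty V := ⟨⟨gp Y, hη⟩⟩
    refine ⟨(ig f) ⁻¹ᵁ U, isAffineOpen_preimage f hU hV hUV' hη, hxU, fun s => ?_⟩
    have hz0 : e.app ((ig f) ⁻¹ᵁ U) ((kernel.ι e).app ((ig f) ⁻¹ᵁ U) s) = 0 :=
      kernel_ι_app_comp e _ s
    set z := (kernel.ι e).app ((ig f) ⁻¹ᵁ U) s with hzdef
    letI := (f.appLE V U hUV').hom.toAlgebra
    letI := pbModule (ig f) G (le_refl ((ig f) ⁻¹ᵁ U))
    haveI hloc := isLocalizedModule_pbSec f G hU hV hUV' hη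
    obtain ⟨⟨g, ⟨c, r, hr, rfl⟩⟩, hgc⟩ := IsLocalizedModule.surj
      (Algebra.algebraMapSubmonoid Γ(X, U) (nonZeroDivisors Γ(Y, V)))
      (pbSecₗ (ig f) G (le_refl ((ig f) ⁻¹ᵁ U))) z
    have hr0 : r ≠ 0 := nonZeroDivisors.ne_zero hr
    have hunit := isUnit_appLE f hU hV hUV' hη r hr0
    change ((ig f).appLE U ((ig f) ⁻¹ᵁ U) le_rfl (f.appLE V U hUV' r)) • z =
      pbSec (ig f) G (le_refl ((ig f) ⁻¹ᵁ U)) g at hgc
    -- evaluate `e` on both sides
    have h1 : e.app ((ig f) ⁻¹ᵁ U) (pbSec (ig f) G (le_refl ((ig f) ⁻¹ᵁ U)) g) = 0 := by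
      rw [← hgc, Scheme.Modules.Hom.app_smul, hz0, smul_zero]
    have h2 : e.app ((ig f) ⁻¹ᵁ U) (pbSec (ig f) G (le_refl ((ig f) ⁻¹ᵁ U)) g) =
        (show Γ(G', (ig f) ⁻¹ᵁ U) from ι.app U g) := by
      change ((Scheme.Modules.pullbackPushforwardAdjunction (ig f)).counit.app G').app _
        (((Scheme.Modules.pullback (ig f)).map ι).app _ (pbSec (ig f) G _ g)) = _
      rw [pbSec_naturality, counit_pbSec, res_self]
    have h3 : ι.app U g = 0 := by
      rw [h2] at h1
      exact h1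
    have h4 : g = 0 := by
      apply mono_app ι U
      rw [h3, map_zero]
    rw [h4, pbSec_zero] at hgc
    have h5 : z = 0 := hunit.smul_eq_zero.mp hgc
    apply mono_app (kernel.ι e) ((ig f) ⁻¹ᵁ U)
    rw [map_zero]
    exact h5
  exact Preadditive.mono_of_kernel_zero (hz.eq_of_src _ _)

end Mod

end Groth.Agent.H3.GenQuot
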