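import Groth.Agent.Lib.Helper3.GenQuot.B

/-!
# Flat quotients extending a quotient of the generic fibre (S4684)
-/

set_option autoImplicit false
universe u
open CategoryTheory Limits AlgebraicGeometry TopologicalSpace Opposite

namespace Groth.Agent.H3.GenQuot

open Groth.Agent.LD.QC

variable {X Y : Scheme.{u}} [IsIntegral Y] (f : X ⟶ Y)

set_option maxHeartbeats 1600000 in
/-- existence of the flat quotient extending a quotient of the generic fibre -/
theorem exists_flat_quotient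
    (hY : ∀ y : Y, IsRegularLocalRing (Y.presheaf.stalk y) ∧ ringKrullDim (Y.presheaf.stalk y) ≤ 1)
    (F : X.Modules) [hF : F.IsQuasicoherent] (G' : (f.fiber (gp Y)).Modules)
    [hG' : G'.IsQuasicoherent] (π : (Scheme.Modules.pullback (ig f)).obj F ⟶ G') [Epi π] :
    ∃ (G : X.Modules) (ρ : F ⟶ G) (e : (Scheme.Modules.pullback (ig f)).obj G ≅ G'),
      Epi ρ ∧ G.IsQuasicoherent ∧ FlatMod.IsFlatOver f G ∧
        (Scheme.Modules.pullback (ig f)).map ρ ≫ e.hom = π := by
  set adj := Scheme.Modules.pullbackPushforwardAdjunction (ig f) with hadj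
  set a : F ⟶ (Scheme.Modules.pushforward (ig f)).obj G' := adj.homEquiv F G' π with ha
  haveI hpush : ((Scheme.Modules.pushforward (ig f)).obj G').IsQuasicoherent :=
    qc_pushforward (ig f) G'
  have hGq : (Abelian.image a).IsQuasicoherent :=
    qc_kernel (cokernel.π a) hpush (qc_cokernel a hF hpush)
  haveI := hGq
  set e0 : (Scheme.Modules.pullback (ig f)).obj (Abelian.image a) ⟶ G' :=
    (Scheme.Modules.pullback (ig f)).map (Abelian.image.ι a) ≫ adj.counit.app G' with he0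
  have hfac : (Scheme.Modules.pullback (ig f)).map (Abelian.factorThruImage a) ≫ e0 = π := by
    rw [he0, ← Category.assoc, ← CategoryTheory.Functor.map_comp, Abelian.image.fac,
      ← Adjunction.homEquiv_counit, ha, Equiv.symm_apply_apply]
  haveI : Mono e0 := mono_pullback_comp_counit f G' (Abelian.image.ι a)
  haveI : Epi e0 := epi_of_epi_fac hfac
  haveI : IsIso e0 := isIso_of_mono_of_epi e0
  exact ⟨Abelian.image a, Abelian.factorThruImage a, asIso e0, inferInstance, hGq,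
    isFlatOver_of_mono_pushforward f hY G' (Abelian.image.ι a), hfac⟩

set_option maxHeartbeats 1600000 in
/-- uniqueness of the flat quotient extending a quotient of the generic fibre -/
theorem flat_quotient_unique
    (F : X.Modules) (G' : (f.fiber (gp Y)).Modules)
    (π : (Scheme.Modules.pullback (ig f)).obj F ⟶ G')
    (G₁ G₂ : X.Modules) (ρ₁ : F ⟶ G₁) (ρ₂ : F ⟶ G₂)
    (e₁ : (Scheme.Modules.pullback (ig f)).obj G₁ ≅ G')
    (e₂ : (Scheme.Modules.pullback (ig f)).obj G₂ ≅ G')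
    [Epi ρ₁] [Epi ρ₂] [hq₁ : G₁.IsQuasicoherent] [hq₂ : G₂.IsQuasicoherent]
    (hfl₁ : FlatMod.IsFlatOver f G₁) (hfl₂ : FlatMod.IsFlatOver f G₂)
    (h₁ : (Scheme.Modules.pullback (ig f)).map ρ₁ ≫ e₁.hom = π)
    (h₂ : (Scheme.Modules.pullback (ig f)).map ρ₂ ≫ e₂.hom = π) :
    ∃ e : G₁ ≅ G₂, ρ₁ ≫ e.hom = ρ₂ := by
  set adj := Scheme.Modules.pullbackPushforwardAdjunction (ig f) with hadj
  set m₁ : G₁ ⟶ (Scheme.Modules.pushforward (ig f)).obj G' := adj.homEquiv G₁ G' e₁.hom with hm₁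
  set m₂ : G₂ ⟶ (Scheme.Modules.pushforward (ig f)).obj G' := adj.homEquiv G₂ G' e₂.hom with hm₂
  have hc₁ : ρ₁ ≫ m₁ = adj.homEquiv F G' π := by
    rw [hm₁, ← Adjunction.homEquiv_naturality_left, h₁]
  have hc₂ : ρ₂ ≫ m₂ = adj.homEquiv F G' π := by
    rw [hm₂, ← Adjunction.homEquiv_naturality_left, h₂]
  haveI : Mono m₁ := by
    rw [hm₁, Adjunction.homEquiv_unit]
    haveI := mono_unit_of_isFlatOver f G₁ hfl₁
    exact mono_comp _ _
  haveI : Mono m₂ := by
    rw [hm₂, Adjunction.homEquiv_unit]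
    haveI := mono_unit_of_isFlatOver f G₂ hfl₂
    exact mono_comp _ _
  have sq : CommSq ρ₂ ρ₁ m₂ m₁ := ⟨by rw [hc₁, hc₂]⟩
  haveI : StrongEpi ρ₁ := strongEpi_of_epi ρ₁
  have hl₁ : ρ₁ ≫ sq.lift = ρ₂ := sq.fac_left
  have hl₂ : sq.lift ≫ m₂ = m₁ := sq.fac_right
  haveI : Epi sq.lift := epi_of_epi_fac hl₁
  haveI : Mono sq.lift := mono_of_mono_fac hl₂
  haveI : IsIso sq.lift := isIso_of_mono_of_epi _
  exact ⟨asIso sq.lift, hl₁⟩

end Groth.Agent.H3.GenQuot
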